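import Cfsg.Agent.Lib.Walter4.Ind
import Cfsg.Agent.Lib.SEMain.Bender
import Cfsg.Prelude.Def_TwoFusion
import Cfsg.Prelude.Def_Exceptional
import Cfsg.Prelude.Def_Sporadic

/-!
Consequences of the theorem on strongly closed abelian 2-subgroups: the statement used as hypothesis.
-/

set_option autoImplicit false

namespace Cfsg.Agent.GoldCons

universe u

/-- A simple group with a non-trivial strongly closed abelian subgroup of a Sylow 2-subgroup has abelian
Sylow 2-subgroups or a strongly embedded subgroup. -/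
def ClosedStmt : Prop :=
  ∀ (G : Type u) [Group G] [Finite G], IsSimpleGroup G → ∀ (S : Sylow 2 G) (A : Subgroup G), A ≠ ⊥ →
    IsMulCommutative A → Cfsg.IsStronglyClosed A (S : Subgroup G) →
      IsMulCommutative (S : Subgroup G) ∨ ∃ H : Subgroup G, Cfsg.IsStronglyEmbedded H

/-- The simple groups with abelian Sylow 2-subgroups are known. -/
def AbelianStmt : Prop :=
  ∀ (G : Type u) [Group G] [Finite G], IsSimpleGroup G → ¬ IsMulCommutative G →
    (∀ P : Sylow 2 G, IsMulCommutative (P : Subgroup G)) → Walter4.Good G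

/-- The list of the simple groups with abelian Sylow 2-subgroups, by isomorphism type or order (S0506). -/
def AbelianList : Prop :=
  ∀ (G : Type u) [Group G] [Finite G], IsSimpleGroup G → ¬ IsMulCommutative G →
    ∀ S : Sylow 2 G, IsMulCommutative (S : Subgroup G) →
      (∃ a : ℕ, 2 ≤ a ∧ ∃ (F : Type) (_ : Field F) (_ : Fintype F), Fintype.card F = 2 ^ a ∧
          Nonempty (G ≃* Matrix.ProjectiveSpecialLinearGroup (Fin 2) F)) ∨
        (∃ (F : Type) (_ : Field F) (_ : Fintype F), (Fintype.card F % 8 = 3 ∨ Fintype.card F % 8 = 5) ∧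
          Nonempty (G ≃* Matrix.ProjectiveSpecialLinearGroup (Fin 2) F)) ∨
        Cfsg.IsRee G ∨ Cfsg.IsJ1 G

end Cfsg.Agent.GoldCons
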