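import Cfsg.Agent.Lib.Walter4.KindTools
import Cfsg.Agent.Lib.Walter8.Quot
import Cfsg.Agent.Lib.PiTwo.PSLTwo

/-!
An element of odd order centralising a four-group of `PSL₂(q)` is trivial.
-/

set_option autoImplicit false
set_option linter.style.haveILetI false
set_option linter.unusedSectionVars false

namespace Cfsg.Agent.GoldCons

open Subgroup Matrix

variable {F : Type} [Field F] [Fintype F]

local notation "L" => Matrix.ProjectiveSpecialLinearGroup (Fin 2) F

/-- An element of odd order centralising a four-group of `PSL₂(q)`, `q` odd, is trivial. -/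
theorem klein_cent (h2 : (2 : F) ≠ 0) {u v z : L} (hu : u * u = 1) (hu1 : u ≠ 1) (hv : v * v = 1) (hv1 : v ≠ 1)
    (huv : v ≠ u) (hc : u * v = v * u) (hzu : z * u = u * z) (hzv : z * v = v * z) (hzo : Odd (orderOf z)) :
    z = 1 := by
  obtain ⟨c, hcu⟩ := isConj_iff.1 (PSL2Inv.isConj_pr_w h2 hu hu1).symm
  set v' := c * v * c⁻¹ with hv'
  set z' := c * z * c⁻¹ with hz'
  suffices h1 : z' = 1 by exact conj_eq_one_iff.1 (hz' ▸ h1)
  have hz'o : Odd (orderOf z') := by rw [hz', Invol.order_conj]; exact hzo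
  have hv'2 : v' * v' = 1 := by
    rw [hv', show c * v * c⁻¹ * (c * v * c⁻¹) = c * (v * v) * c⁻¹ by group, hv, mul_one, mul_inv_cancel]
  have hz'w : z' * PSL2Inv.pr SL2Inv.w = PSL2Inv.pr SL2Inv.w * z' := by
    rw [← hcu, hz', show c * z * c⁻¹ * (c * u * c⁻¹) = c * (z * u) * c⁻¹ by group, hzu]; group
  have hv'w : v' * PSL2Inv.pr SL2Inv.w = PSL2Inv.pr SL2Inv.w * v' := by
    rw [← hcu, hv', show c * v * c⁻¹ * (c * u * c⁻¹) = c * (v * u) * c⁻¹ by group, ← hc]; group
  have hz'v : z' * v' = v' * z' := by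
    rw [hz', hv', show c * z * c⁻¹ * (c * v * c⁻¹) = c * (z * v) * c⁻¹ by group, hzv]; group
  obtain ⟨g, hgtr, hg⟩ := PSL2Inv.exists_lift h2 hv'2 fun e => hv1 (conj_eq_one_iff.1 (hv' ▸ e))
  have hgD : g ∈ (PSL2Inv.D : Subgroup (SpecialLinearGroup (Fin 2) F)) :=
    mem_centralizer_singleton_iff.2 (by rw [hg]; exact hv'w)
  have hganti : PSL2Inv.Anti g := by
    rcases PSL2Inv.mem_D.1 hgD with h | h
    · exfalso
      obtain ⟨e1, e2⟩ := PSL2Inv.C_entries (SL2Inv.mem_C.2 h)
      rw [Matrix.trace_fin_two, e1, ← two_mul, mul_eq_zero, or_iff_right h2] at hgtr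
      have hdet := g.2
      rw [Matrix.det_fin_two, e1, e2, hgtr] at hdet
      have hgw : v' = PSL2Inv.pr SL2Inv.w := by
        rw [← hg, PSL2Inv.pr_eq_iff]
        rcases sq_eq_one_iff.1 (show g.1 1 0 ^ 2 = 1 by linear_combination hdet) with e | e
        · left; apply Subtype.ext; ext i j
          fin_cases i <;> fin_cases j <;> simp [SL2Inv.w, hgtr, e1, e2, e]
        · right; apply Subtype.ext
          rw [Matrix.SpecialLinearGroup.coe_mul, SL2Inv.coe_negOne]
          ext i j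
          fin_cases i <;> fin_cases j <;> simp [SL2Inv.w, hgtr, e1, e2, e]
      exact huv (mul_left_cancel (mul_right_cancel (hgw.trans hcu.symm : c * v * c⁻¹ = c * u * c⁻¹)))
    · exact ⟨hgtr, h⟩
  obtain ⟨y, hy⟩ := PSL2Inv.pr_surjective z'
  have hyD : y ∈ (PSL2Inv.D : Subgroup (SpecialLinearGroup (Fin 2) F)) :=
    mem_centralizer_singleton_iff.2 (by rw [hy]; exact hz'w)
  refine Walter4.KindPf.eq_one_of_odd_sq ?_ hz'o
  rcases PSL2Inv.D_dichotomy hganti hyD with h | h
  · have h1 := congrArg PSL2Inv.pr (hganti.conj_C h)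
    rw [map_mul, map_mul, map_inv, map_inv, hg, hy, ← hz'v, mul_inv_cancel_right] at h1
    exact mul_eq_one_iff_eq_inv.2 h1
  · have h1 := hganti.mul_C h
    rw [mul_inv_cancel_left] at h1
    rw [← hy]
    exact PSL2Inv.pr_mul_self h1.1

end Cfsg.Agent.GoldCons
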