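import Cfsg.Agent.Lib.GoldCons.NoReal
import Cfsg.Agent.Lib.CentralInter.Basic
import Cfsg.Agent.Lib.GoldCons.Klein
import Cfsg.Agent.Lib.SubThree.PSLFacts
import Cfsg.Agent.Lib.Walter8.Plane
import Cfsg.Agent.Lib.Perm.AutAlternating
import Cfsg.Agent.S0343
import Cfsg.Agent.S0494

/-!
Simple groups in which the central intersections of Sylow 2-subgroups have 2-rank at most one.
-/

set_option autoImplicit false
set_option linter.style.haveILetI false
set_option linter.unusedSectionVars false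

namespace Cfsg.Agent.GoldCons

open Subgroup
open Cfsg.Agent.CentralInter (mem_smul_sylow)

universe u

variable {G : Type u} [Group G] [Finite G]

/-- Every central intersection of two Sylow 2-subgroups has 2-rank at most one. -/
def CentralRankOne (G : Type u) [Group G] : Prop :=
  ∀ S T : Sylow 2 G, S ≠ T →
    ((S : Subgroup G) ⊓ (T : Subgroup G) = ⊥ ∨
      ∃ z ∈ (S : Subgroup G) ⊓ (T : Subgroup G), orderOf z = 2 ∧
        ∃ U : Sylow 2 G, z ∈ (Subgroup.center ↥(U : Subgroup G)).map (U : Subgroup G).subtype) →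
    Cfsg.PRankLE 2 1 ↥((S : Subgroup G) ⊓ (T : Subgroup G))

/-- Two commuting involutions, one of them 2-central, lie in one Sylow 2-subgroup only. -/
theorem sylow_unique (h : CentralRankOne G) {z b : G} {S T U : Sylow 2 G}
    (hzS : z ∈ (S : Subgroup G)) (hbS : b ∈ (S : Subgroup G)) (hzT : z ∈ (T : Subgroup G))
    (hbT : b ∈ (T : Subgroup G)) (hz : z * z = 1) (hz1 : z ≠ 1) (hb : b * b = 1) (hb1 : b ≠ 1)
    (hne : z ≠ b) (hc : z * b = b * z) (hzU : z ∈ (U : Subgroup G))
    (hUc : ∀ u ∈ (U : Subgroup G), u * z = z * u) : S = T := by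
  by_contra hST
  have hr := h S T hST (Or.inr ⟨z, ⟨hzS, hzT⟩, Invol.order_two_of_sq hz hz1, U,
    ⟨⟨z, hzU⟩, mem_center_iff.2 fun g => Subtype.ext (hUc g g.2), rfl⟩⟩)
  have hzi : z⁻¹ = z := inv_eq_of_mul_eq_one_right hz
  have hbi : b⁻¹ = b := inv_eq_of_mul_eq_one_right hb
  have e1 : z * (z * b) = b := by rw [← mul_assoc, hz, one_mul]
  have e2 : z * b * b = z := by rw [mul_assoc, hb, mul_one]
  have e3 : b * z = z * b := hc.symm
  have e4 : b * (z * b) = z := by rw [← mul_assoc, e3, e2]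
  have e5 : z * b * z = b := by rw [mul_assoc, e3, e1]
  have e6 : z * b * (z * b) = 1 := by rw [← mul_assoc, e5, hb]
  let K : Subgroup G :=
    { carrier := {1, z, b, z * b}
      one_mem' := Or.inl rfl
      mul_mem' := fun {x y} hx hy => by
        rcases hx with rfl | rfl | rfl | rfl <;> rcases hy with rfl | rfl | rfl | rfl <;>
          simp [hz, hb, e1, e2, e3, e4, e5, e6]
      inv_mem' := fun {x} hx => by
        rcases hx with rfl | rfl | rfl | rfl <;> simp [hzi, hbi, mul_inv_rev, e3] }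
  have hK : K ≤ (S : Subgroup G) ⊓ (T : Subgroup G) := by
    rintro x (rfl | rfl | rfl | rfl)
    exacts [one_mem _, ⟨hzS, hzT⟩, ⟨hbS, hbT⟩, mul_mem (mem_inf.2 ⟨hzS, hzT⟩) (mem_inf.2 ⟨hbS, hbT⟩)]
  have hsq : ∀ x ∈ K, x * x = 1 := by
    rintro x (rfl | rfl | rfl | rfl)
    exacts [one_mul 1, hz, hb, e6]
  have hcard : Nat.card K = 4 := by
    have hzb : z * b ≠ 1 := fun e => hne (by rw [← hbi]; exact mul_eq_one_iff_eq_inv.1 e)
    rw [show Nat.card K = ({1, z, b, z * b} : Set G).ncard from Nat.card_coe_set_eq _,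
      Set.ncard_insert_of_notMem (by simp [Ne.symm hz1, Ne.symm hb1, Ne.symm hzb]),
      Set.ncard_insert_of_notMem (by simp [hne, hb1]), Set.ncard_pair (by simp [hz1])]
  have hle := hr (K.subgroupOf _) ⟨⟨fun x y => Subtype.ext (Subtype.ext ?_)⟩⟩ fun x hx =>
    Subtype.ext (by rw [SubmonoidClass.coe_pow, pow_two]; exact hsq _ hx)
  · rw [Nat.card_congr (subgroupOfEquivOfLe hK).toEquiv, hcard] at hle
    omega
  · have hx := hsq _ (mem_subgroupOf.1 x.2)
    have hy := hsq _ (mem_subgroupOf.1 y.2)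
    have hxy := hsq _ (mul_mem (mem_subgroupOf.1 x.2) (mem_subgroupOf.1 y.2))
    show ((x : ↥((S : Subgroup G) ⊓ (T : Subgroup G))) : G) * (y : ↥((S : Subgroup G) ⊓ (T : Subgroup G))) = _
    conv_lhs => rw [← inv_eq_of_mul_eq_one_right hxy, mul_inv_rev, inv_eq_of_mul_eq_one_right hx,
      inv_eq_of_mul_eq_one_right hy]
    rfl

theorem two_dvd_card [IsSimpleGroup G] (hna : ¬ IsMulCommutative G) : 2 ∣ Nat.card G := by
  by_contra h2
  haveI : Group.IsSolvable G := by
    haveI := OddChar.oddSolvable (⊤ : Subgroup G)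
      (by rw [Subgroup.card_top]; exact Nat.odd_iff.2 (Nat.two_dvd_ne_zero.1 h2))
    exact Group.isSolvable_of_surjective (f := (Subgroup.topEquiv (G := G)).toMonoidHom)
      (Subgroup.topEquiv (G := G)).surjective
  refine hna ⟨⟨fun a b => ?_⟩⟩
  have h3 : commutator G = ⊥ := (inferInstance : (commutator G).Normal).eq_bot_or_eq_top.resolve_right
    (Group.IsSolvable.commutator_lt_top_of_nontrivial G).ne
  have := commutator_mem_commutator (mem_top a) (mem_top b)
  rw [← _root_.commutator_def, h3, mem_bot] at this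
  exact commutatorElement_eq_one_iff_mul_comm.1 this

/-- The involutions of the centre of a Sylow 2-subgroup form a strongly closed subgroup. -/
theorem exists_closed [IsSimpleGroup G] (hna : ¬ IsMulCommutative G) (h : CentralRankOne G) (S : Sylow 2 G) :
    ∃ A : Subgroup G, A ≠ ⊥ ∧ IsMulCommutative A ∧ Cfsg.IsStronglyClosed A (S : Subgroup G) := by
  haveI : Fact (Nat.Prime 2) := ⟨Nat.prime_two⟩
  let A : Subgroup G :=
    { carrier := {x | x ∈ (S : Subgroup G) ∧ x * x = 1 ∧ ∀ s ∈ (S : Subgroup G), x * s = s * x}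
      one_mem' := ⟨one_mem _, one_mul 1, fun s _ => by rw [one_mul, mul_one]⟩
      mul_mem' := fun {a b} ha hb => ⟨mul_mem ha.1 hb.1, by
        rw [mul_assoc, ← mul_assoc b a, hb.2.2 a ha.1, mul_assoc a b b, hb.2.1, mul_one, ha.2.1],
        fun s hs => ((show Commute a s from ha.2.2 s hs).mul_left (show Commute b s from hb.2.2 s hs)).eq⟩
      inv_mem' := fun {a} ha => by
        rw [Set.mem_ofPred_eq, inv_eq_of_mul_eq_one_right ha.2.1]
        exact ha }
  obtain ⟨z, hzA, hz1⟩ : ∃ z ∈ A, z ≠ 1 := by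
    haveI : Nontrivial (S : Subgroup G) := Finite.one_lt_card_iff_nontrivial.1
      (Nat.lt_of_lt_of_le (by norm_num) (Nat.le_of_dvd Nat.card_pos (S.dvd_card_of_dvd_card (two_dvd_card hna))))
    haveI := S.isPGroup'.center_nontrivial
    obtain ⟨k, hk⟩ := (S.isPGroup'.to_subgroup (Subgroup.center (S : Subgroup G))).exists_card_eq
    have hk1 : 2 ∣ Nat.card (Subgroup.center (S : Subgroup G)) := by
      have : 1 < Nat.card (Subgroup.center (S : Subgroup G)) := Finite.one_lt_card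
      rcases Nat.eq_zero_or_pos k with rfl | hp
      · rw [pow_zero] at hk; omega
      · rw [hk]; exact dvd_pow_self 2 hp.ne'
    obtain ⟨t, ht⟩ := exists_prime_orderOf_dvd_card' (G := Subgroup.center (S : Subgroup G)) 2 hk1
    refine ⟨((t : (S : Subgroup G)) : G), ⟨(t : (S : Subgroup G)).2, ?_,
      fun s hs => (congrArg Subtype.val (mem_center_iff.1 t.2 ⟨s, hs⟩)).symm⟩, fun e => ?_⟩
    · have h4 := pow_orderOf_eq_one t
      rw [ht, pow_two] at h4
      exact congrArg (fun u : Subgroup.center (S : Subgroup G) => ((u : (S : Subgroup G)) : G)) h4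
    · rw [show t = 1 from Subtype.ext (Subtype.ext e), orderOf_one] at ht
      omega
  refine ⟨A, fun e => hz1 (mem_bot.1 (e ▸ hzA)), ⟨⟨fun a b => Subtype.ext (a.2.2.2 _ b.2.1)⟩⟩,
    fun x hx => hx.1, fun x hx g hyS => ?_⟩
  set y := g * x * g⁻¹ with hy
  have hy2 : y * y = 1 := by
    rw [hy, show g * x * g⁻¹ * (g * x * g⁻¹) = g * (x * x) * g⁻¹ by group, hx.2.1, mul_one, mul_inv_cancel]
  by_contra hyA
  have hyz : z ≠ y := fun e => hyA (e ▸ hzA)
  have hy1 : y ≠ 1 := fun e => hyA (e ▸ one_mem _)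
  -- a Sylow subgroup with `y` in its centre
  set U : Sylow 2 G := g • S with hU
  have hUy : ∀ u ∈ (U : Subgroup G), u * y = y * u := by
    intro u hu
    rw [hU, mem_smul_sylow] at hu
    calc u * y = g * (g⁻¹ * u * g * x) * g⁻¹ := by rw [hy]; group
      _ = g * (x * (g⁻¹ * u * g)) * g⁻¹ := by rw [hx.2.2 _ hu]
      _ = y * u := by rw [hy]; group
  have hUC : (U : Subgroup G) ≤ centralizer ({y} : Set G) := fun u hu =>
    mem_centralizer_singleton_iff.2 (hUy u hu)
  have hzy : z * y = y * z := hzA.2.2 y hyS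
  have hzC : z ∈ centralizer ({y} : Set G) := mem_centralizer_singleton_iff.2 hzy
  obtain ⟨R, hR⟩ := (IsPGroup.of_card (p := 2) (n := 1) (G := zpowers (⟨z, hzC⟩ : centralizer ({y} : Set G))) (by
    rw [Nat.card_zpowers, Subgroup.orderOf_mk, Invol.order_two_of_sq hzA.2.1 hz1, pow_one])).exists_le_sylow
  obtain ⟨c, hc⟩ := MulAction.exists_smul_eq (centralizer ({y} : Set G)) (U.subtype hUC) R
  have hzc : (c : G)⁻¹ * z * c ∈ (U : Subgroup G) := by
    have hm := hR (mem_zpowers _)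
    rw [← hc, mem_smul_sylow, Sylow.coe_subtype, mem_subgroupOf] at hm
    exact hm
  have hcy : (c : G)⁻¹ * y * c = y := by
    rw [mul_assoc, ← mem_centralizer_singleton_iff.1 c.2, inv_mul_cancel_left]
  set T : Sylow 2 G := (c : G)⁻¹ • S with hT
  have hmemT : ∀ s ∈ (S : Subgroup G), (c : G)⁻¹ * s * c ∈ (T : Subgroup G) := by
    intro s hs
    rw [hT, mem_smul_sylow, inv_inv, show (c : G) * ((c : G)⁻¹ * s * c) * (c : G)⁻¹ = s by group]
    exact hs
  have hyU : y ∈ (U : Subgroup G) := by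
    rw [hU, mem_smul_sylow, hy, show g⁻¹ * (g * x * g⁻¹) * g = x by group]
    exact hx.1
  have hTU : T = U := by
    refine sylow_unique h (U := T) (hmemT z hzA.1) (hcy ▸ hmemT y hyS) hzc hyU ?_ ?_ hy2 hy1 ?_ ?_
      (hmemT z hzA.1) ?_
    · rw [show (c : G)⁻¹ * z * c * ((c : G)⁻¹ * z * c) = (c : G)⁻¹ * (z * z) * c by group, hzA.2.1,
        mul_one, inv_mul_cancel]
    · intro e
      apply hz1
      calc z = c * ((c : G)⁻¹ * z * c) * (c : G)⁻¹ := by group
        _ = 1 := by rw [e, mul_one, mul_inv_cancel]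
    · intro e
      exact hyz (mul_left_cancel (mul_right_cancel (e.trans hcy.symm)))
    · have h2 : (c : G)⁻¹ * z * c * ((c : G)⁻¹ * y * c) = (c : G)⁻¹ * y * c * ((c : G)⁻¹ * z * c) := by
        rw [show (c : G)⁻¹ * z * c * ((c : G)⁻¹ * y * c) = (c : G)⁻¹ * (z * y) * c by group, hzy]
        group
      rwa [hcy] at h2
    · intro u hu
      rw [hT, mem_smul_sylow, inv_inv] at hu
      calc u * ((c : G)⁻¹ * z * c) = (c : G)⁻¹ * ((c : G) * u * (c : G)⁻¹ * z) * c := by group
        _ = (c : G)⁻¹ * (z * ((c : G) * u * (c : G)⁻¹)) * c := by rw [hzA.2.2 _ hu]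
        _ = _ := by group
  refine hyA ⟨hyS, hy2, fun s hs => ?_⟩
  have h1 := hUy _ (hTU ▸ hmemT s hs)
  calc y * s = c * ((c : G)⁻¹ * y * c * ((c : G)⁻¹ * s * c)) * (c : G)⁻¹ := by group
    _ = c * ((c : G)⁻¹ * s * c * ((c : G)⁻¹ * y * c)) * (c : G)⁻¹ := by rw [hcy, h1]
    _ = s * y := by group

/-- Of the Ree–Janko type only Janko's group is left. -/
theorem isJ1_of_rj [IsSimpleGroup G] (h : CentralRankOne G)
    (hab : ∀ P : Sylow 2 G, IsMulCommutative (P : Subgroup G)) (hR : Walter4.RJType G) :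
    Cfsg.IsJ1 G := by
  classical
  haveI : Fact (Nat.Prime 2) := ⟨Nat.prime_two⟩
  obtain ⟨-, S, hE, hL, hcore⟩ := hR
  -- two involutions of `S` fix `S`
  have fix : ∀ s ∈ (S : Subgroup G), s ≠ 1 → ∀ t ∈ (S : Subgroup G), t ≠ 1 → t ≠ s → ∀ g : G,
      g * s = s * g → g * t = t * g → g ∈ centralizer ((S : Subgroup G) : Set G) := by
    intro s hs hs1 t ht ht1 hts g hgs hgt
    refine hE.mem_centralizer_of_two (Sylow.smul_eq_iff_mem_normalizer.1 ?_) hs hs1 ht ht1 hts hgs hgt
    refine sylow_unique h (U := S) ?_ ?_ hs ht (hE.sq s hs) hs1 (hE.sq t ht) ht1 hts.symm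
      (hE.comm hs ht) hs fun u hu => hE.comm hu hs
    · rw [mem_smul_sylow, mul_assoc, ← hgs, inv_mul_cancel_left]; exact hs
    · rw [mem_smul_sylow, mul_assoc, ← hgt, inv_mul_cancel_left]; exact ht
  obtain ⟨a, ha, -, -, ha1, -⟩ := hE.exists_basis 1
  obtain ⟨L, F, i1, i2, φ, hodd, h3, hLC, hCN, hφ, -, hker, hcl⟩ := hL a ha ha1
  rw [hcore a ha ha1] at hker hcl
  have hφi : Function.Injective φ := φ.ker_eq_bot_iff.1 (by rw [hker, Subgroup.bot_subgroupOf])
  let e : L ≃* Matrix.ProjectiveSpecialLinearGroup (Fin 2) F := MulEquiv.ofBijective φ ⟨hφi, hφ⟩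
  haveI hs : IsSimpleGroup (Matrix.ProjectiveSpecialLinearGroup (Fin 2) F) :=
    Matrix.ProjectiveSpecialLinearGroup.rank_two_simple (by rw [Nat.card_eq_fintype_card]; omega)
  have hnc := Walter8.not_comm_psl hodd
  have haa := hE.sq a ha
  have haC : a ∈ Walter8.cen a := mem_centralizer_singleton_iff.2 rfl
  have haL : a ∉ L := by
    intro haL
    refine hnc ⟨⟨fun p q => ?_⟩⟩
    rcases IsSimpleGroup.eq_bot_or_eq_top_of_normal
        (Subgroup.center (Matrix.ProjectiveSpecialLinearGroup (Fin 2) F)) inferInstance with hb | ht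
    · exfalso
      have hz : e ⟨a, haL⟩ ∈ Subgroup.center (Matrix.ProjectiveSpecialLinearGroup (Fin 2) F) := by
        rw [Subgroup.mem_center_iff]
        intro p
        obtain ⟨⟨x, hx⟩, rfl⟩ := e.surjective p
        rw [← map_mul, ← map_mul]
        exact congrArg e (Subtype.ext (mem_centralizer_singleton_iff.1 (hLC hx)))
      rw [hb, mem_bot, MulEquiv.map_eq_one_iff] at hz
      exact ha1 (congrArg Subtype.val hz)
    · exact Subgroup.mem_center_iff.1 (ht ▸ mem_top q) p
  have hord : orderOf a = 2 := hE.order_two ha ha1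
  have hZC : zpowers a ≤ Walter8.cen a := zpowers_le.2 haC
  let ψ : zpowers a × L →* Walter8.cen a :=
    (inclusion hZC).noncommCoprod (inclusion hLC) fun x l => Subtype.ext (by
      obtain ⟨i, hi⟩ := mem_zpowers_iff.1 x.2
      show (x : G) * l = l * x
      rw [← hi]
      exact ((show Commute (l : G) a from mem_centralizer_singleton_iff.1 (hLC l.2)).zpow_right i).symm.eq)
  have hψ : Function.Injective ψ := (injective_iff_map_eq_one ψ).2 fun ⟨x, l⟩ hxl => by
    have h1 : (x : G) * l = 1 := congrArg Subtype.val hxl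
    have hl : (l : G) = 1 := by
      by_contra hl
      have hlZ : (l : G) ∈ zpowers a := by
        rw [← inv_eq_of_mul_eq_one_right h1]; exact inv_mem x.2
      obtain ⟨i, hi⟩ := mem_zpowers_iff.1 hlZ
      rcases Int.even_or_odd i with ⟨j, rfl⟩ | ⟨j, rfl⟩
      · rw [← two_mul, zpow_mul, zpow_two, haa, one_zpow] at hi
        exact hl hi.symm
      · rw [zpow_add, zpow_mul, zpow_two, haa, one_zpow, one_mul, zpow_one] at hi
        exact haL (hi ▸ l.2)
    rw [hl, mul_one] at h1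
    exact Prod.ext (Subtype.ext h1) (Subtype.ext hl)
  have h2L : 2 * Nat.card L ∣ Nat.card (Walter8.cen a) := by
    have := Subgroup.card_dvd_of_injective ψ hψ
    rwa [Nat.card_prod, Nat.card_zpowers, hord] at this
  have h4L : 4 ∣ Nat.card L := by rw [Nat.card_congr e.toEquiv]; exact Walter8.four_dvd_psl hodd
  have h8L : ¬ 8 ∣ Nat.card L := fun h8 => hE.sixteen
    (((Nat.mul_dvd_mul (dvd_refl 2) h8).trans h2L).trans (card_subgroup_dvd_card _))
  -- two involutions of `S ∩ L`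
  have hSC : (S : Subgroup G) ≤ Walter8.cen a := hE.le_cen ha
  haveI : (L.subgroupOf (Walter8.cen a)).Normal := normal_subgroupOf_of_le_normalizer hCN
  have hi4 : 4 ≤ Nat.card (L.subgroupOf (S : Subgroup G)) := by
    have h8 := (L.subgroupOf (S : Subgroup G)).card_mul_index
    rw [hE.card] at h8
    have hd : (L.subgroupOf (S : Subgroup G)).index ∣ (L.subgroupOf (Walter8.cen a)).index := by
      have := Subgroup.relIndex_dvd_index_of_normal (L.subgroupOf (Walter8.cen a))
        ((S : Subgroup G).subgroupOf (Walter8.cen a))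
      rwa [Subgroup.relIndex_subgroupOf hSC] at this
    have hn4 : ¬ 4 ∣ (L.subgroupOf (Walter8.cen a)).index := fun h4 => hE.sixteen (by
      have := Nat.mul_dvd_mul h4L h4
      rw [← Nat.card_congr (subgroupOfEquivOfLe hLC).toEquiv, Subgroup.card_mul_index] at this
      exact this.trans (card_subgroup_dvd_card _))
    obtain ⟨k, hk, hk'⟩ := (Nat.dvd_prime_pow Nat.prime_two).1
      (show (L.subgroupOf (S : Subgroup G)).index ∣ 2 ^ 3 from ⟨Nat.card (L.subgroupOf (S : Subgroup G)), by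
        rw [mul_comm]; exact h8.symm⟩)
    rw [hk'] at h8 hd
    rcases Nat.lt_or_ge k 2 with hk2 | hk2
    · interval_cases k <;> omega
    · exact absurd ((pow_dvd_pow 2 hk2).trans hd) hn4
  obtain ⟨⟨⟨b, hbS⟩, hbL⟩, hb1⟩ :=
    @exists_ne _ (Finite.one_lt_card_iff_nontrivial.1 (show 1 < Nat.card (L.subgroupOf (S : Subgroup G)) by omega)) 1
  replace hb1 : b ≠ 1 := fun e' => hb1 (Subtype.ext (Subtype.ext e'))
  replace hbL : b ∈ L := hbL
  obtain ⟨c, hcS, hcL, hc1, hcb⟩ : ∃ c ∈ (S : Subgroup G), c ∈ L ∧ c ≠ 1 ∧ c ≠ b := by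
    by_contra hno
    push Not at hno
    have hle : ((L.subgroupOf (S : Subgroup G)).map (S : Subgroup G).subtype : Set G) ⊆ {1, b} := by
      rintro _ ⟨⟨c, hcS⟩, hcL, rfl⟩
      by_cases hc1 : c = 1
      · exact Or.inl hc1
      · exact Or.inr (hno c hcS hcL hc1)
    have h1 := Set.ncard_le_ncard hle
    rw [Set.ncard_pair (Ne.symm hb1), ← Nat.card_coe_set_eq,
      show Nat.card ((L.subgroupOf (S : Subgroup G)).map (S : Subgroup G).subtype : Set G) =
        Nat.card (L.subgroupOf (S : Subgroup G)) from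
          Subgroup.card_map_of_injective (S : Subgroup G).subtype_injective] at h1
    omega
  have hba : b ≠ a := fun e' => haL (e' ▸ hbL)
  -- no element of odd order of `L` centralises `b`
  have h2F := Walter8.two_ne_zero_of_odd hodd
  set B := e ⟨b, hbL⟩ with hB
  set C := e ⟨c, hcL⟩ with hC
  have hsqe : ∀ s (hs : s ∈ (S : Subgroup G)) (hsL : s ∈ L), e ⟨s, hsL⟩ * e ⟨s, hsL⟩ = 1 := fun s hs hsL => by
    rw [← map_mul, show (⟨s, hsL⟩ : L) * ⟨s, hsL⟩ = 1 from Subtype.ext (hE.sq s hs), map_one]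
  have hB1 : B ≠ 1 := fun e' => hb1 (congrArg Subtype.val (e.map_eq_one_iff.1 e'))
  have hC1 : C ≠ 1 := fun e' => hc1 (congrArg Subtype.val (e.map_eq_one_iff.1 e'))
  have hCB : C ≠ B := fun e' => hcb (congrArg Subtype.val (e.injective e'))
  have hodd1 : ∀ y, y * B = B * y → Odd (orderOf y) → y = 1 := by
    intro y hyB hyo
    obtain ⟨⟨z, hz⟩, rfl⟩ := e.surjective y
    have hzb : z * b = b * z := congrArg Subtype.val (e.injective (by rw [map_mul, map_mul]; exact hyB) :
      (⟨z, hz⟩ : L) * ⟨b, hbL⟩ = ⟨b, hbL⟩ * ⟨z, hz⟩)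
    have hzS := fix a ha ha1 b hbS hb1 hba z (mem_centralizer_singleton_iff.1 (hLC hz)) hzb
    have hzc : z * c = c * z := (mem_centralizer_iff.1 hzS c hcS).symm
    refine klein_cent h2F (hsqe b hbS hbL) hB1 (hsqe c hcS hcL) hC1 hCB ?_ hyB ?_ hyo
    · rw [← map_mul, ← map_mul]
      exact congrArg e (Subtype.ext (hE.comm hbS hcS))
    · rw [← map_mul, ← map_mul]
      exact congrArg e (Subtype.ext hzc)
  have hq : Fintype.card F = 5 := by
    obtain ⟨h4, hor⟩ := SubThree.card_cent_invol hodd (hsqe b hbS hbL) hB1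
    set n := Nat.card (centralizer ({e ⟨b, hbL⟩} : Set (Matrix.ProjectiveSpecialLinearGroup (Fin 2) F))) with hn
    have hn0 : n ≠ 0 := Nat.card_pos.ne'
    have hp : ∀ d : ℕ, d.Prime → d ∣ n → d = 2 := by
      intro d hd hdn
      by_contra hd2
      haveI : Fact d.Prime := ⟨hd⟩
      obtain ⟨y, hy⟩ := exists_prime_orderOf_dvd_card' d hdn
      have h1 := hodd1 y (mem_centralizer_singleton_iff.1 y.2) (by
        rw [Subgroup.orderOf_coe, hy]; exact hd.odd_of_ne_two hd2)
      rw [show y = 1 from Subtype.ext h1, orderOf_one] at hy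
      exact hd.ne_one hy.symm
    obtain ⟨k, hk⟩ : ∃ k, n = 2 ^ k := ⟨_, Nat.eq_prime_pow_of_unique_prime_dvd hn0 (fun {d} hd hdn => hp d hd hdn)⟩
    have hn4 : n = 4 := by
      rcases Nat.lt_or_ge k 3 with hk3 | hk3
      · rw [hk] at h4 ⊢
        interval_cases k <;> omega
      · refine absurd ?_ h8L
        rw [Nat.card_congr e.toEquiv]
        exact ((show 8 = 2 ^ 3 by norm_num) ▸ (hk ▸ pow_dvd_pow 2 hk3 : 2 ^ 3 ∣ n)).trans
          (card_subgroup_dvd_card _)
    omega
  have hL60 : Nat.card L = 60 := by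
    rw [Nat.card_congr e.toEquiv]
    have c5 := Dickson.gcd_mul_card_psl (K := F)
    rw [Nat.card_eq_fintype_card (α := F), hq] at c5
    norm_num at c5
    rw [← Nat.card_eq_fintype_card] at c5
    omega
  -- the whole centraliser
  haveI : IsSimpleGroup L := e.isSimpleGroup_congr.2 hs
  have hC120 : Nat.card (Walter8.cen a) = 120 := by
    obtain ⟨eA⟩ := S0494.result (G := L) hL60
    set N := L.subgroupOf (Walter8.cen a) with hN
    let eN : N ≃* alternatingGroup (Fin 5) := (subgroupOfEquivOfLe hLC).trans eA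
    have h120 : Nat.card (MulAut N) = 120 := by
      rw [Nat.card_congr (MulAut.congr eN).toEquiv, ← Nat.card_congr (Equiv.ofBijective _
        (AutAlt.bijective_conjNormal (n := 5) (by norm_num) (by norm_num))), Nat.card_perm,
        Nat.card_fin]
      rfl
    let f : Walter8.cen a →* MulAut N := MulAut.conjNormal
    have hk : Nat.card f.ker ∣ 2 := by
      have hle : f.ker ≤ (zpowers a).subgroupOf (Walter8.cen a) := fun g hg => by
        rw [mem_subgroupOf]
        have := hcl g g.2 fun l hl => by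
          have h1 := congrArg (fun α : MulAut N => (((α ⟨⟨l, hLC hl⟩, hl⟩ : N) : Walter8.cen a) : G))
            (MonoidHom.mem_ker.1 hg)
          simp only [f, MulAut.conjNormal_apply, MulAut.one_apply, Subgroup.coe_mul, Subgroup.coe_inv] at h1
          rw [h1, mul_inv_cancel]
          exact one_mem _
        rwa [bot_sup_eq] at this
      refine (Subgroup.card_dvd_of_le hle).trans ?_
      rw [Nat.card_congr (subgroupOfEquivOfLe hZC).toEquiv, Nat.card_zpowers, hord]
    have h240 : Nat.card (Walter8.cen a) ∣ 2 * 120 := by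
      rw [← f.ker.card_mul_index]
      refine Nat.mul_dvd_mul hk ?_
      rw [Subgroup.index_ker, ← h120]
      exact card_subgroup_dvd_card _
    rw [hL60] at h2L
    obtain ⟨j, hj⟩ := h2L
    have hle := Nat.le_of_dvd (by norm_num) h240
    have hpos : 0 < Nat.card (Walter8.cen a) := Nat.card_pos
    have h16 : ¬ 16 ∣ Nat.card (Walter8.cen a) := fun h' => hE.sixteen (h'.trans (card_subgroup_dvd_card _))
    have hj2 : j ≤ 2 := by omega
    interval_cases j <;> omega
  have hψb : Function.Bijective ψ := (Nat.bijective_iff_injective_and_card ψ).2 ⟨hψ, by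
    rw [Nat.card_prod, Nat.card_zpowers, hord, hL60, hC120]⟩
  let e2 : zpowers a ≃* Multiplicative (ZMod 2) := mulEquivOfPrimeCardEq (p := 2)
    (by rw [Nat.card_zpowers, hord]) (by rw [Nat.card_congr Multiplicative.toAdd, Nat.card_zmod])
  rcases S0343.result (fun P x y => (hab P).is_comm.comm x y) (by omega) a hord
      ⟨(MulEquiv.ofBijective ψ hψb).symm.trans (e2.prodCongr e)⟩ with ⟨m, -, hm, -⟩ | ⟨-, hJ⟩
  · exfalso
    rw [hq, pow_succ] at hm
    omega
  · exact hJ

theorem psl_five {F : Type} [Field F] [Fintype F] (hF : Fintype.card F = 5) :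
    ∃ (F' : Type) (_ : Field F') (_ : Fintype F'), Fintype.card F' = 2 ^ 2 ∧
      Nonempty (Matrix.ProjectiveSpecialLinearGroup (Fin 2) F ≃*
        Matrix.ProjectiveSpecialLinearGroup (Fin 2) F') := by
  haveI : Fact (Nat.Prime 2) := ⟨Nat.prime_two⟩
  haveI : Fact (Nat.Prime 5) := ⟨by norm_num⟩
  letI : Fintype (GaloisField 2 2) := Fintype.ofFinite _
  have h4 : Fintype.card (GaloisField 2 2) = 4 := by
    rw [← Nat.card_eq_fintype_card, GaloisField.card 2 2 two_ne_zero]; norm_num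
  obtain ⟨a⟩ := psl_four h4
  haveI := Matrix.ProjectiveSpecialLinearGroup.rank_two_simple (F := F)
    (by rw [Nat.card_eq_fintype_card, hF]; norm_num)
  haveI := Matrix.ProjectiveSpecialLinearGroup.rank_two_simple (F := ZMod 5)
    (by rw [Nat.card_zmod]; norm_num)
  have c := Dickson.gcd_mul_card_psl (K := F)
  have c5 := Dickson.gcd_mul_card_psl (K := ZMod 5)
  rw [Nat.card_eq_fintype_card (α := F), hF] at c
  rw [Nat.card_zmod] at c5
  norm_num at c c5
  simp only [← Nat.card_eq_fintype_card] at c5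
  obtain ⟨b⟩ := S0494.result (G := Matrix.ProjectiveSpecialLinearGroup (Fin 2) F) (by omega)
  obtain ⟨d⟩ := S0494.result (G := Matrix.ProjectiveSpecialLinearGroup (Fin 2) (ZMod 5)) (by omega)
  exact ⟨GaloisField 2 2, inferInstance, inferInstance, by rw [h4]; norm_num,
    ⟨(b.trans d.symm).trans a.symm⟩⟩

/-- S3185 from the strongly closed theorem, the abelian theorem and the strongly embedded theorem. -/
theorem S3185_of (hA : ClosedStmt.{u}) (hW : AbelianStmt.{u}) (hM : SEMain.Stmt.{u}) [IsSimpleGroup G]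
    (hG : ¬ IsMulCommutative G)
    (h : ∀ S T : Sylow 2 G, S ≠ T →
      ((S : Subgroup G) ⊓ (T : Subgroup G) = ⊥ ∨
        ∃ z ∈ (S : Subgroup G) ⊓ (T : Subgroup G), orderOf z = 2 ∧
          ∃ U : Sylow 2 G, z ∈ (Subgroup.center ↥(U : Subgroup G)).map (U : Subgroup G).subtype) →
      Cfsg.PRankLE 2 1 ↥((S : Subgroup G) ⊓ (T : Subgroup G))) :
    (∃ (n : ℕ) (F : Type) (_ : Field F) (_ : Fintype F), 2 ≤ n ∧ Fintype.card F = 2 ^ n ∧
        Nonempty (G ≃* Matrix.ProjectiveSpecialLinearGroup (Fin 2) F)) ∨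
    (∃ (m : ℕ) (F : Type) (_ : Field F) (_ : Fintype F), 1 ≤ m ∧ Fintype.card F = 2 ^ (2 * m + 1) ∧
        Nonempty (G ≃* ↥(Cfsg.Lie.Sz F (2 ^ (m + 1))))) ∨
    (∃ (n : ℕ) (F : Type) (_ : Field F) (_ : Fintype F), 2 ≤ n ∧ Fintype.card F = 4 ^ n ∧
        Nonempty (G ≃* Cfsg.PSU 3 F (2 ^ n))) ∨
    (∃ (F : Type) (_ : Field F) (_ : Fintype F), (Fintype.card F % 8 = 3 ∨ Fintype.card F % 8 = 5) ∧
        5 < Fintype.card F ∧ Nonempty (G ≃* Matrix.ProjectiveSpecialLinearGroup (Fin 2) F)) ∨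
    Cfsg.IsJ1 G := by
  classical
  haveI : Fact (Nat.Prime 2) := ⟨Nat.prime_two⟩
  obtain ⟨S⟩ : Nonempty (Sylow 2 G) := inferInstance
  obtain ⟨A, hA1, hAc, hcl⟩ := exists_closed hG h S
  rcases hA G inferInstance S A hA1 hAc hcl with hab | ⟨H, hH⟩
  · have hall : ∀ P : Sylow 2 G, IsMulCommutative (P : Subgroup G) := fun P => ⟨⟨fun x y =>
      (Sylow.equiv P S).injective (by rw [map_mul, map_mul, hab.is_comm.comm])⟩⟩
    rcases hW G inferInstance hG hall with ⟨F, i1, i2, hF, ⟨e⟩⟩ | hR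
    · rcases hF with ⟨h8, h5⟩ | ⟨n, hn, hq⟩
      · rcases Nat.lt_or_ge 5 (Fintype.card F) with hgt | hle
        · exact Or.inr (Or.inr (Or.inr (Or.inl ⟨F, i1, i2, h8, hgt, ⟨e⟩⟩)))
        · obtain ⟨F', j1, j2, hF', ⟨e'⟩⟩ := psl_five (le_antisymm hle h5)
          exact Or.inl ⟨2, F', j1, j2, le_rfl, hF', ⟨e.trans e'⟩⟩
      · exact Or.inl ⟨n, F, i1, i2, hn, hq, ⟨e⟩⟩
    · exact Or.inr (Or.inr (Or.inr (Or.inr (isJ1_of_rj h hall hR))))
  · rcases SEMain.bender_of_simple hM hH with ⟨F, i1, i2, ⟨n, hn, hq⟩, he⟩ | hSz | ⟨F, i1, i2, n, hn, hq, he⟩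
    · exact Or.inl ⟨n, F, i1, i2, hn, hq, he⟩
    · obtain ⟨F, i1, i2, m, hm, hq, he⟩ := hSz
      exact Or.inr (Or.inl ⟨m, F, i1, i2, hm, hq, he⟩)
    · refine Or.inr (Or.inr (Or.inl ⟨n, F, i1, i2, hn, ?_, he⟩))
      rw [hq, ← pow_mul, mul_comm, pow_mul]
      norm_num

end Cfsg.Agent.GoldCons
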