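import Cfsg.Agent.Lib.GoldCons.Basic
import Cfsg.Agent.Lib.SU3Sylow.Embed
import Cfsg.Agent.Lib.Classical.DicksonProper
import Cfsg.Agent.Lib.DGroup.MainPSL
import Cfsg.Agent.S0494

/-!
Simple groups in which no 2-element of order at least 4 is real.
-/

set_option autoImplicit false
set_option linter.style.haveILetI false
set_option linter.unusedSectionVars false

namespace Cfsg.Agent.GoldCons

open Subgroup SU3Sylow

universe u

/-- `PSU(3, 2^n)` has a real element of order `4`. -/
theorem exists_real_PSU {F : Type} [Field F] [Fintype F] {n : ℕ} (hn : 1 ≤ n)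
    (hF : Fintype.card F = (2 ^ n) ^ 2) :
    ∃ x y : Cfsg.PSU 3 F (2 ^ n), IsPGroup 2 (zpowers x) ∧ y * x * y⁻¹ = x⁻¹ ∧ x * x ≠ 1 := by
  obtain ⟨hchar, σ, hinv, hne, hσ, hq⟩ := SU3Sylow.setup hn hF
  haveI := hchar
  haveI := hinv
  haveI : Fact (Nat.Prime 2) := ⟨Nat.prime_two⟩
  obtain ⟨P⟩ : Nonempty (Sylow 2 (Cfsg.PSU 3 F (2 ^ n))) := inferInstance
  obtain ⟨e⟩ := SU3Sylow.sylow_PSU_equiv hne hn hσ hq P
  obtain ⟨α, hα⟩ := SU3Sylow.exists_alpha hne
  obtain ⟨x, hx⟩ := Heis.exists_mk (σ := σ) hne 1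
  obtain ⟨y, hy⟩ := Heis.exists_mk (σ := σ) hne α
  have hyx : y * x * y⁻¹ = x⁻¹ := by
    rw [mul_inv_eq_iff_eq_mul]
    have h := x.eq
    rw [hx, map_one, mul_one] at h
    ext
    · simp [add_comm]
    · simp only [Heis.mul_b, Heis.inv_b, Heis.inv_a, hx, hy, map_one, one_mul, mul_one]
      linear_combination h + hα - (σ x.b + α) * (CharTwo.two_eq_zero (R := F))
  refine ⟨(e.symm x : _), (e.symm y : _), ?_, ?_, ?_⟩
  · exact (P.isPGroup'.to_le (Subgroup.zpowers_le.2 (e.symm x).2))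
  · rw [← Subgroup.coe_mul, ← Subgroup.coe_inv, ← Subgroup.coe_mul, ← Subgroup.coe_inv, ← map_mul,
      ← map_inv, ← map_mul, ← map_inv, hyx]
  · intro h
    have h' : x * x = 1 := e.symm.injective (by
      rw [map_mul, map_one]
      exact Subtype.ext h)
    rw [Heis.mul_self_eq_one_iff, hx] at h'
    exact one_ne_zero h'

/-- `PSL(2, 4)` is `PSL(2, 5)`. -/
theorem psl_four {F : Type} [Field F] [Fintype F] (hF : Fintype.card F = 4) :
    Nonempty (Matrix.ProjectiveSpecialLinearGroup (Fin 2) F ≃*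
      Matrix.ProjectiveSpecialLinearGroup (Fin 2) (ZMod 5)) := by
  haveI : Fact (Nat.Prime 5) := ⟨by norm_num⟩
  haveI := Matrix.ProjectiveSpecialLinearGroup.rank_two_simple (F := F)
    (by rw [Nat.card_eq_fintype_card, hF])
  haveI := Matrix.ProjectiveSpecialLinearGroup.rank_two_simple (F := ZMod 5)
    (by rw [Nat.card_zmod]; norm_num)
  have c4 := Dickson.gcd_mul_card_psl (K := F)
  have c5 := Dickson.gcd_mul_card_psl (K := ZMod 5)
  rw [Nat.card_eq_fintype_card (α := F), hF] at c4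
  rw [Nat.card_zmod] at c5
  norm_num at c4 c5
  rw [← Nat.card_eq_fintype_card] at c5
  obtain ⟨a⟩ := S0494.result (G := Matrix.ProjectiveSpecialLinearGroup (Fin 2) F) (by omega)
  obtain ⟨b⟩ := S0494.result (G := Matrix.ProjectiveSpecialLinearGroup (Fin 2) (ZMod 5)) (by omega)
  exact ⟨a.trans b.symm⟩

variable {G : Type u} [Group G] [Finite G]

/-- A 2-element inverted by some element is an involution. -/
theorem real_sq (h : ∀ x : G, (∀ r : ℕ, r.Prime → r ∣ orderOf x → r = 2) →
      normalizer ((zpowers x : Subgroup G) : Set G) ≤ centralizer {x})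
    {x y : G} (hx : IsPGroup 2 (zpowers x)) (hy : y * x * y⁻¹ = x⁻¹) : x * x = 1 := by
  haveI : Fact (Nat.Prime 2) := ⟨Nat.prime_two⟩
  obtain ⟨k, hk⟩ := IsPGroup.iff_card.1 hx
  rw [Nat.card_zpowers] at hk
  have hN : y ∈ normalizer ((zpowers x : Subgroup G) : Set G) := by
    refine mem_normalizer_fintype fun z hz => ?_
    obtain ⟨i, rfl⟩ := mem_zpowers_iff.1 hz
    rw [← conj_zpow, hy, inv_zpow]
    exact inv_mem (zpow_mem (mem_zpowers x) i)
  have hc := mem_centralizer_singleton_iff.1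
    (h x (fun r hr hd => (Nat.prime_dvd_prime_iff_eq hr Nat.prime_two).1
      (hr.dvd_of_dvd_pow (hk ▸ hd))) hN)
  rw [hc, mul_inv_cancel_right] at hy
  exact mul_eq_one_iff_eq_inv.2 hy

/-- S4030 from the strongly closed theorem, the abelian theorem and the strongly embedded theorem. -/
theorem S4030_of (hA : ClosedStmt.{u}) (hW : AbelianList.{u}) (hM : SEMain.Stmt.{u}) [IsSimpleGroup G]
    (hna : ¬ IsMulCommutative G)
    (hirr : ∀ x : G, (∀ r : ℕ, r.Prime → r ∣ orderOf x → r = 2) →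
      Subgroup.normalizer ((Subgroup.zpowers x : Subgroup G) : Set G) ≤ Subgroup.centralizer {x}) :
    (∃ (F : Type) (_ : Field F) (_ : Fintype F), 4 ≤ Fintype.card F ∧
        (Fintype.card F % 8 = 0 ∨ Fintype.card F % 8 = 3 ∨ Fintype.card F % 8 = 5) ∧
        Nonempty (G ≃* Matrix.ProjectiveSpecialLinearGroup (Fin 2) F)) ∨
    Cfsg.IsSuzuki G ∨ Cfsg.IsRee G ∨ Cfsg.IsJ1 G := by
  classical
  haveI : Fact (Nat.Prime 2) := ⟨Nat.prime_two⟩
  haveI : Fact (Nat.Prime 5) := ⟨by norm_num⟩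
  have fix4 : ∀ (F : Type) (_ : Field F) (_ : Fintype F), 4 ≤ Fintype.card F →
      (Fintype.card F % 8 = 0 ∨ Fintype.card F % 8 = 3 ∨ Fintype.card F % 8 = 5 ∨ Fintype.card F = 4) →
      Nonempty (G ≃* Matrix.ProjectiveSpecialLinearGroup (Fin 2) F) →
      ∃ (F : Type) (_ : Field F) (_ : Fintype F), 4 ≤ Fintype.card F ∧
        (Fintype.card F % 8 = 0 ∨ Fintype.card F % 8 = 3 ∨ Fintype.card F % 8 = 5) ∧
        Nonempty (G ≃* Matrix.ProjectiveSpecialLinearGroup (Fin 2) F) := by
    intro F i1 i2 h4 h8 he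
    rcases h8 with h | h | h | h
    · exact ⟨F, i1, i2, h4, Or.inl h, he⟩
    · exact ⟨F, i1, i2, h4, Or.inr (Or.inl h), he⟩
    · exact ⟨F, i1, i2, h4, Or.inr (Or.inr h), he⟩
    · obtain ⟨e⟩ := psl_four (F := F) h
      obtain ⟨e'⟩ := he
      exact ⟨ZMod 5, inferInstance, inferInstance, by rw [ZMod.card]; norm_num,
        Or.inr (Or.inr (by rw [ZMod.card])), ⟨e'.trans e⟩⟩
  have two_pow_cases : ∀ n : ℕ, 2 ≤ n → 2 ^ n % 8 = 0 ∨ 2 ^ n = 4 := by
    intro n hn
    rcases Nat.lt_or_ge n 3 with h | h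
    · right
      obtain rfl : n = 2 := by omega
      rfl
    · left
      obtain ⟨m, rfl⟩ := Nat.exists_eq_add_of_le h
      rw [pow_add]
      exact Nat.mul_mod_right 8 _
  obtain ⟨S⟩ : Nonempty (Sylow 2 G) := inferInstance
  have hcomm : ∀ s ∈ (S : Subgroup G), ∀ t ∈ (S : Subgroup G), s * s = 1 → t * t = 1 → s * t = t * s := by
    intro s hs t ht hs2 ht2
    have hsi : s⁻¹ = s := inv_eq_of_mul_eq_one_right hs2
    have hti : t⁻¹ = t := inv_eq_of_mul_eq_one_right ht2
    have h1 := real_sq hirr (x := s * t) (y := s)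
      (S.isPGroup'.to_le (zpowers_le.2 (mul_mem hs ht)))
      (by rw [mul_inv_rev, hsi, hti, ← mul_assoc s s, hs2, one_mul])
    rw [mul_eq_one_iff_eq_inv, mul_inv_rev, hsi, hti] at h1
    exact h1
  let A : Subgroup G :=
    { carrier := {x | x ∈ (S : Subgroup G) ∧ x * x = 1}
      one_mem' := ⟨one_mem _, one_mul 1⟩
      mul_mem' := fun {a b} ha hb => ⟨mul_mem ha.1 hb.1, by
        rw [mul_assoc, ← mul_assoc b a, hcomm b hb.1 a ha.1 hb.2 ha.2, mul_assoc a b b, hb.2, mul_one, ha.2]⟩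
      inv_mem' := fun {a} ha => by
        rw [Set.mem_ofPred_eq, inv_eq_of_mul_eq_one_right ha.2]
        exact ha }
  have hA1 : A ≠ ⊥ := by
    have h2 : 2 ∣ Nat.card G := by
      by_contra h2
      haveI : Group.IsSolvable G := by
        haveI := OddChar.oddSolvable (⊤ : Subgroup G)
          (by rw [Subgroup.card_top]; exact Nat.odd_iff.2 (Nat.two_dvd_ne_zero.1 h2))
        exact Group.isSolvable_of_surjective (f := (Subgroup.topEquiv (G := G)).toMonoidHom)
          (Subgroup.topEquiv (G := G)).surjective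
      refine hna ⟨⟨fun a b => ?_⟩⟩
      have h3 : commutator G = ⊥ := (inferInstance : (commutator G).Normal).eq_bot_or_eq_top.resolve_right
        (Group.IsSolvable.commutator_lt_top_of_nontrivial G).ne
      have := commutator_mem_commutator (mem_top a) (mem_top b)
      rw [← _root_.commutator_def, h3, mem_bot] at this
      exact commutatorElement_eq_one_iff_mul_comm.1 this
    obtain ⟨t, ht⟩ := exists_prime_orderOf_dvd_card' (G := (S : Subgroup G)) 2 (S.dvd_card_of_dvd_card h2)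
    intro h
    have hmem : (t : G) ∈ A := ⟨t.2, by
      have h4 := pow_orderOf_eq_one (t : G)
      rw [Subgroup.orderOf_coe, ht, pow_two] at h4
      exact h4⟩
    rw [h, mem_bot] at hmem
    rw [Subtype.ext (show (t : G) = ((1 : (S : Subgroup G)) : G) from hmem), orderOf_one] at ht
    omega
  have hAc : IsMulCommutative A :=
    ⟨⟨fun a b => Subtype.ext (hcomm _ a.2.1 _ b.2.1 a.2.2 b.2.2)⟩⟩
  have hcl : Cfsg.IsStronglyClosed A (S : Subgroup G) :=
    ⟨fun x hx => hx.1, fun x hx g hg => ⟨hg, by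
      rw [show g * x * g⁻¹ * (g * x * g⁻¹) = g * (x * x) * g⁻¹ by group, hx.2, mul_one, mul_inv_cancel]⟩⟩
  rcases hA G inferInstance S A hA1 hAc hcl with hab | ⟨H, hH⟩
  · rcases hW G inferInstance hna S hab with ⟨n, hn, F, i1, i2, hq, he⟩ | ⟨F, i1, i2, h8, he⟩ | h | h
    · refine Or.inl (fix4 F i1 i2 (hq ▸ (Nat.pow_le_pow_right (by norm_num) hn : 2 ^ 2 ≤ 2 ^ n)) ?_ he)
      have := two_pow_cases n hn
      omega
    · rcases Nat.lt_or_ge (Fintype.card F) 4 with hlt | hge
      · exfalso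
        have h3 : Fintype.card F = 3 := by omega
        obtain ⟨e⟩ := he
        haveI := DGroup.solvable_psl_three h3
        haveI : Group.IsSolvable G := Group.isSolvable_of_surjective (f := e.symm.toMonoidHom) e.symm.surjective
        exact hna ⟨⟨fun a b => by
          have h4 : commutator G = ⊥ := (inferInstance : (commutator G).Normal).eq_bot_or_eq_top.resolve_right
            (Group.IsSolvable.commutator_lt_top_of_nontrivial G).ne
          have := commutator_mem_commutator (mem_top a) (mem_top b)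
          rw [← _root_.commutator_def, h4, mem_bot] at this
          exact commutatorElement_eq_one_iff_mul_comm.1 this⟩⟩
      · exact Or.inl (fix4 F i1 i2 hge (by omega) he)
    · exact Or.inr (Or.inr (Or.inl h))
    · exact Or.inr (Or.inr (Or.inr h))
  · rcases SEMain.S0222_of hM hH with ⟨F, i1, i2, hc2, h4, he⟩ | hSz | ⟨F, i1, i2, q, hq, hev, h4, ⟨e⟩⟩
    · refine Or.inl (fix4 F i1 i2 h4 ?_ he)
      haveI := hc2
      obtain ⟨n, -, hn⟩ := FiniteField.card F 2
      rw [hn]
      have hn2 : 2 ≤ (n : ℕ) := by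
        by_contra hlt
        have := Nat.pow_le_pow_right (show 0 < 2 by norm_num) (show (n : ℕ) ≤ 1 by omega)
        omega
      have := two_pow_cases n hn2
      omega
    · exact Or.inr (Or.inl hSz)
    · exfalso
      obtain ⟨k, hk⟩ : ∃ k, q = 2 ^ k := by
        obtain ⟨p, m, hp, hm, hpm⟩ := FiniteField.isPrimePow_card F
        have hp' : p.Prime := hp.nat_prime
        have h2 : p = 2 := ((Nat.prime_dvd_prime_iff_eq Nat.prime_two hp').1
          (Nat.prime_two.dvd_of_dvd_pow (show 2 ∣ p ^ m from hpm ▸ hq ▸ hev.two_dvd.trans (dvd_pow_self q two_ne_zero)))).symm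
        subst h2
        obtain ⟨k, -, hk⟩ := (Nat.dvd_prime_pow Nat.prime_two).1
          (show q ∣ 2 ^ m from hpm ▸ hq ▸ dvd_pow_self q two_ne_zero)
        exact ⟨k, hk⟩
      subst hk
      have hk1 : 1 ≤ k := by
        by_contra hlt
        obtain rfl : k = 0 := by omega
        norm_num at h4
      obtain ⟨x, y, hx, hyx, hne⟩ := exists_real_PSU (F := F) hk1 hq
      refine hne (e.symm.injective ?_)
      rw [map_mul, map_one]
      refine real_sq hirr (y := e.symm y) ?_ ?_
      · have := hx.map e.symm.toMonoidHom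
        rwa [MonoidHom.map_zpowers] at this
      · rw [← map_inv, ← map_mul, ← map_mul, hyx, map_inv]

end Cfsg.Agent.GoldCons
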